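import Groth.Agent.Lib.WeightDescend4.Idem
import Groth.Agent.Lib.QCGen12.Finite
import Groth.Agent.Lib.AdmBlowUp4.Ideals
import Groth.Agent.Lib.Weight4.LC

/-!
# A classifier of finite open pieces of a quasi-finite affine morphism
-/

set_option autoImplicit false
set_option backward.isDefEq.respectTransparency.types false
universe u

open AlgebraicGeometry CategoryTheory Limits IsLocalRing Groth.Agent.Weight TopologicalSpace

namespace Groth.Agent.WeightDescend4

variable {X S : Scheme.{u}}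

/-- `U ⊆ P = X ×_S T` is finite over `T` and every finite open piece is étale locally a pullback of it. -/
structure IsClassifier (f : X ⟶ S) {T P : Scheme.{u}} {qX : P ⟶ X} {pT : P ⟶ T} {q : T ⟶ S}
    (H : IsPullback qX pT f q) (U : P.Opens) : Prop where
  finite : IsFinite (U.ι ≫ pT)
  univ : ∀ {V PV : Scheme.{u}} (g : V ⟶ S) {qV : PV ⟶ X} {pV : PV ⟶ V} (HV : IsPullback qV pV f g)
    (U' : PV.Opens) [IsFinite (U'.ι ≫ pV)] (v : V),
    ∃ (N : Scheme.{u}) (k : N ⟶ V) (h : N ⟶ T) (hh : h ≫ q = k ≫ g), Etale k ∧ v ∈ Set.range k ∧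
      bcMap HV (IsPullback.of_hasPullback f (k ≫ g)) k rfl ⁻¹ᵁ U' =
        bcMap H (IsPullback.of_hasPullback f (k ≫ g)) h hh ⁻¹ᵁ U

theorem exists_embedding {R : Type u} [CommRing R] (f : X ⟶ Spec (CommRingCat.of R)) [IsAffine X]
    [LocallyQuasiFinite f] [LocallyOfFiniteType f] :
    ∃ (B : Type u) (_ : CommRing B) (_ : Algebra R B), Module.Free R B ∧ Module.Finite R B ∧
      ∃ (i : X ⟶ Spec (CommRingCat.of B)) (O : (Spec (CommRingCat.of B)).Opens)
        (K : Set ↥(Spec (CommRingCat.of B))), IsImmersion i ∧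
        i ≫ Spec.map (CommRingCat.ofHom (algebraMap R B)) = f ∧ IsCompact (O : Set ↥(Spec (CommRingCat.of B))) ∧
        IsClosed K ∧ Set.range i = K ∩ O := by
  haveI : IsAffineHom f := inferInstance
  let P : f.normalization.Opens := f.toNormalization.opensRange
  have hP : IsCompact (P : Set f.normalization) := isCompact_range f.toNormalization.continuous
  let e : X ≅ P.toScheme := f.toNormalization.isoOpensRange
  have he : e.hom ≫ P.ι ≫ f.fromNormalization = f := by
    rw [← Category.assoc, Scheme.Hom.isoOpensRange_hom_ι, Scheme.Hom.toNormalization_fromNormalization]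
  haveI : LocallyOfFiniteType (P.ι ≫ f.fromNormalization) := by
    rw [← MorphismProperty.cancel_left_of_respectsIso @LocallyOfFiniteType e.hom, he]
    infer_instance
  obtain ⟨T₁, j, ρ, hj, hρ, hjρ⟩ := QCGen12.exists_finite_factor f.fromNormalization P hP
  haveI : IsAffine T₁ := isAffine_of_isAffineHom ρ
  obtain ⟨ψ, hψ⟩ : ∃ ψ, Spec.map ψ = T₁.isoSpec.inv ≫ ρ := Spec.map_surjective _
  letI : Algebra R Γ(T₁, ⊤) := ψ.hom.toAlgebra
  haveI : IsFinite (Spec.map ψ) := by rw [hψ]; infer_instance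
  haveI : Module.Finite R Γ(T₁, ⊤) := ((IsFinite.SpecMap_iff _).1 ‹_› : ψ.hom.Finite)
  obtain ⟨B, _, _, hB1, hB2, φ, hφ⟩ := exists_free_cover (R := R) Γ(T₁, ⊤)
  let kk : T₁ ⟶ Spec (CommRingCat.of B) := T₁.isoSpec.hom ≫ Spec.map (CommRingCat.ofHom φ.toRingHom)
  haveI : IsClosedImmersion (Spec.map (CommRingCat.ofHom φ.toRingHom)) :=
    IsClosedImmersion.spec_of_surjective _ hφ
  have hkk : kk ≫ Spec.map (CommRingCat.ofHom (algebraMap R B)) = ρ := by
    rw [Category.assoc, ← Spec.map_comp, show CommRingCat.ofHom (algebraMap R B) ≫ CommRingCat.ofHom φ.toRingHom = ψ by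
      ext r; exact φ.commutes r, hψ, Iso.hom_inv_id_assoc]
  let j' := e.hom ≫ j
  haveI : IsOpenImmersion j' := inferInstance
  let i := j' ≫ kk
  let Z : Set ↥(Spec (CommRingCat.of B)) := kk '' (Set.range j')ᶜ
  have hZ : IsClosed Z := kk.isClosedEmbedding.isClosedMap _ j'.isOpenEmbedding.isOpen_range.isClosed_compl
  have hnot : ∀ x, i x ∉ Z := by
    rintro x ⟨t, ht, he⟩
    exact ht ⟨x, (kk.isClosedEmbedding.injective he).symm⟩
  have hx : ∀ x : X, ∃ W : (Spec (CommRingCat.of B)).Opens, IsAffineOpen W ∧ i x ∈ W ∧ (W : Set ↥(Spec (CommRingCat.of B))) ⊆ Zᶜ := fun x => by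
    obtain ⟨W, hW, hxW, hsub⟩ := exists_isAffineOpen_mem_and_subset (U := ⟨Zᶜ, hZ.isOpen_compl⟩) (x := i x) (hnot x)
    exact ⟨W, hW, hxW, hsub⟩
  choose W hW hxW hWZ using hx
  obtain ⟨t, ht⟩ := isCompact_univ.elim_finite_subcover (fun x => i ⁻¹' (W x : Set ↥(Spec (CommRingCat.of B))))
    (fun x => (W x).2.preimage i.continuous) (fun x _ => Set.mem_iUnion.2 ⟨x, hxW x⟩)
  refine ⟨B, _, _, hB1, hB2, i, ⨆ x ∈ t, W x, Set.range kk, inferInstance, ?_, ?_, kk.isClosedEmbedding.isClosed_range, ?_⟩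
  · rw [Category.assoc, hkk, Category.assoc, hjρ, he]
  · rw [Opens.coe_iSup]
    simp only [Opens.coe_iSup]
    exact t.finite_toSet.isCompact_biUnion fun x _ => (hW x).isCompact
  · simp only [Opens.coe_iSup]
    refine Set.Subset.antisymm ?_ ?_
    · rintro _ ⟨x, rfl⟩
      obtain ⟨y, hy, hxy⟩ := Set.mem_iUnion₂.1 (ht (Set.mem_univ x))
      exact ⟨⟨_, rfl⟩, Set.mem_iUnion₂.2 ⟨y, hy, hxy⟩⟩
    · rintro _ ⟨⟨a, rfl⟩, hO⟩
      obtain ⟨y, hy, hay⟩ := Set.mem_iUnion₂.1 hO
      by_cases ha : a ∈ Set.range j'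
      · obtain ⟨x, rfl⟩ := ha; exact ⟨x, rfl⟩
      · exact absurd ⟨a, ha, rfl⟩ (hWZ y hay)

/-- A finite splitting: a clopen of a finite scheme over an étale neighbourhood with prescribed points over it. -/
theorem exists_clopen_piece {P V : Scheme.{u}} (π : P ⟶ V) [IsFinite π] (A : Set P) (v : V) :
    ∃ (N : Scheme.{u}) (k : N ⟶ V) (u : N) (C : (pullback π k).Opens), Etale k ∧ k u = v ∧
      IsClopen (C : Set ↥(pullback π k)) ∧
      ∀ z, pullback.snd π k z = u → (z ∈ C ↔ pullback.fst π k z ∈ A) := by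
  classical
  obtain ⟨t, ht⟩ := exists_geomPt v
  let Ω := AlgebraicClosure (V.residueField v)
  haveI := finite_lifts π (fun z => π.quasiFiniteAt z) t (π.finite_preimage_singleton _)
  let L := {b : {b : Spec (CommRingCat.of Ω) ⟶ P // b ≫ π = t} // pt b.1 ∈ A}
  obtain ⟨N, k, ū, W, hk, hū, hfin, huniq⟩ :=
    exists_split π t (fun l : L => l.1.1) (fun l => l.1.2) (fun l => π.quasiFiniteAt _)
  haveI := hfin
  letI := Fintype.ofFinite L
  let H := IsPullback.of_hasPullback π k
  have hcl : ∀ l, IsClosed (W l : Set ↥(pullback π k)) := fun l => by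
    haveI : IsFinite (W l).ι := IsFinite.of_comp (W l).ι (pullback.snd π k)
    rw [← (W l).range_ι]
    exact (W l).ι.isClosedMap.isClosed_range
  refine ⟨N, k, pt ū, ⨆ l, W l, hk, by rw [← pt_comp, hū, ht], ⟨?_, (⨆ l, W l).2⟩, fun z hz => ?_⟩
  · rw [Opens.coe_iSup]; exact isClosed_iUnion_of_finite hcl
  rw [Opens.mem_iSup]
  constructor
  · rintro ⟨l, hl⟩
    obtain ⟨b, hb, hbz⟩ := exists_inLift_of_mem H (W l) ū z hl hz
    rw [← hbz hb.1, ← pt_comp, H.lift_fst, (huniq l b).1 hb]
    exact l.2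
  · intro hA
    obtain ⟨c, hc, hcz⟩ := exists_lift_of_eq (pullback.snd π k) z ((pullback.snd π k).quasiFiniteAt z) ū hz
    have hb : (c ≫ pullback.fst π k) ≫ π = t := by
      rw [Category.assoc, pullback.condition, ← Category.assoc, hc, hū]
    have hbA : pt (c ≫ pullback.fst π k) ∈ A := by rw [pt_comp, hcz]; exact hA
    refine ⟨⟨⟨_, hb⟩, hbA⟩, ?_⟩
    obtain ⟨hb', hm⟩ := (huniq ⟨⟨_, hb⟩, hbA⟩ (c ≫ pullback.fst π k)).2 rfl
    rwa [show H.lift (c ≫ pullback.fst π k) ū hb' = c from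
      H.hom_ext (H.lift_fst ..) ((H.lift_snd ..).trans hc.symm), hcz] at hm

theorem exists_classifier_spec {R : Type u} [CommRing R] (f : X ⟶ Spec (CommRingCat.of R)) [IsAffine X]
    [LocallyQuasiFinite f] [LocallyOfFinitePresentation f] :
    ∃ (T : Scheme.{u}) (q : T ⟶ Spec (CommRingCat.of R)) (U : (pullback f q).Opens),
      CompactSpace T ∧ QuasiSeparatedSpace T ∧ IsClassifier f (IsPullback.of_hasPullback f q) U := by
  classical
  obtain ⟨B, _, _, hB1, hB2, i, O, K, hi, hif, hOc, hK, hrange⟩ := exists_embedding f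
  let p := Spec.map (CommRingCat.ofHom (algebraMap R B))
  haveI : IsFinite p := (IsFinite.SpecMap_iff _).2 (RingHom.finite_algebraMap.2 hB2)
  haveI : LocallyOfFinitePresentation p := by
    rw [HasRingHomProperty.Spec_iff (P := @LocallyOfFinitePresentation)]
    haveI : Module.FinitePresentation R B := Module.finitePresentation_of_projective R B
    haveI : Algebra.FinitePresentation R B := Algebra.FinitePresentation.of_finitePresentation R B
    exact RingHom.finitePresentation_algebraMap.2 this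
  obtain ⟨T₀, q₀, C₀, hT₀, hC₀, huniv⟩ := exists_clopen_classifier (R := R) B
  let D : Set ↥(pullback p q₀) := (C₀ : Set ↥(pullback p q₀)) ∩ (pullback.fst p q₀ ⁻¹' (O : Set ↥(Spec (CommRingCat.of B))))ᶜ
  haveI : IsAffine (pullback p q₀) := isAffine_of_isAffineHom (pullback.snd p q₀)
  haveI : LocallyOfFinitePresentation (pullback.snd p q₀) :=
    MorphismProperty.pullback_snd (P := @LocallyOfFinitePresentation) p q₀ ‹_›
  have hD : Topology.IsConstructible D :=
    (hC₀.1.isCompact.isConstructible hC₀.2).inter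
      (Topology.isConstructible_compl.2 ((pullback.fst p q₀).isConstructible_preimage (hOc.isConstructible O.2)))
  let bad : Set T₀ := pullback.snd p q₀ '' D
  have hbadc : IsClosed bad :=
    (pullback.snd p q₀).isClosedMap _ (hC₀.1.inter (O.2.preimage (pullback.fst p q₀).continuous).isClosed_compl)
  have hbad : Topology.IsConstructible bad := (pullback.snd p q₀).isConstructible_image hD
  let T : T₀.Opens := ⟨badᶜ, hbadc.isOpen_compl⟩
  haveI : CompactSpace T.toScheme :=
    isCompact_iff_compactSpace.1 (AdmBlowUp4.isCompact_of_isConstructible (Topology.isConstructible_compl.2 hbad))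
  haveI : QuasiSeparatedSpace T.toScheme := T.ι.isOpenEmbedding.quasiSeparatedSpace
  let q := T.ι ≫ q₀
  let m : pullback f q ⟶ pullback p q₀ :=
    pullback.lift (pullback.fst f q ≫ i) (pullback.snd f q ≫ T.ι)
      (by rw [Category.assoc, hif, pullback.condition, Category.assoc])
  let U : (pullback f q).Opens := m ⁻¹ᵁ C₀
  refine ⟨T.toScheme, q, U, inferInstance, inferInstance, ⟨?_, ?_⟩⟩
  · let n₀ : pullback f q ⟶ pullback p q :=
      pullback.lift (pullback.fst f q ≫ i) (pullback.snd f q) (by rw [Category.assoc, hif, pullback.condition])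
    have hn₀ : IsPullback (pullback.fst f q) n₀ i (pullback.fst p q) :=
      IsPullback.of_bot (v₂₁ := pullback.snd p q) (v₂₂ := p) (h₃₁ := q)
        (by rw [pullback.lift_snd, hif]; exact IsPullback.of_hasPullback f q)
        (pullback.lift_fst _ _ _).symm (IsPullback.of_hasPullback p q)
    haveI : IsImmersion n₀ := MorphismProperty.of_isPullback hn₀ hi
    let n := U.ι ≫ n₀
    let m' : pullback p q ⟶ pullback p q₀ :=
      pullback.lift (pullback.fst p q) (pullback.snd p q ≫ T.ι) (by rw [Category.assoc, pullback.condition])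
    have hm' : n₀ ≫ m' = m := by
      apply pullback.hom_ext
      · simp only [n₀, m', m, Category.assoc, pullback.lift_fst]
      · simp only [n₀, m', m, Category.assoc, pullback.lift_snd, pullback.lift_snd_assoc]
    have hclosed : IsClosed (Set.range n) := by
      have : Set.range n = m' ⁻¹' (C₀ : Set ↥(pullback p q₀)) ∩ pullback.fst p q ⁻¹' K := by
        ext z
        constructor
        · rintro ⟨a, rfl⟩
          refine ⟨?_, ?_⟩
          · show m' (n₀ (U.ι a)) ∈ C₀
            rw [← Scheme.Hom.comp_apply, hm']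
            exact a.2
          · show pullback.fst p q (n₀ (U.ι a)) ∈ K
            rw [← Scheme.Hom.comp_apply, pullback.lift_fst]
            exact (hrange.le ⟨_, rfl⟩).1
        · rintro ⟨hzC, hzK⟩
          have hzO : pullback.fst p q z ∈ O := by
            by_contra hn
            have hbad' : pullback.snd p q₀ (m' z) ∈ bad := ⟨m' z, ⟨hzC, fun h => hn (by
              show pullback.fst p q z ∈ O
              have h' : pullback.fst p q₀ (m' z) ∈ O := h
              rwa [← Scheme.Hom.comp_apply, pullback.lift_fst] at h')⟩, rfl⟩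
            rw [← Scheme.Hom.comp_apply, pullback.lift_snd] at hbad'
            exact (pullback.snd p q z).2 hbad'
          obtain ⟨x, hx⟩ := hrange.ge ⟨hzK, hzO⟩
          obtain ⟨a, -, ha⟩ := Scheme.exists_preimage_of_isPullback hn₀ x z hx
          refine ⟨⟨a, ?_⟩, ha⟩
          show m a ∈ C₀
          rw [← hm', Scheme.Hom.comp_apply, ha]
          exact hzC
      rw [this]
      exact (hC₀.1.preimage m'.continuous).inter (hK.preimage (pullback.fst p q).continuous)
    haveI : IsClosedImmersion n := IsClosedImmersion.of_isPreimmersion n hclosed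
    haveI : IsFinite (n ≫ pullback.snd p q) := inferInstance
    rwa [Category.assoc, pullback.lift_snd] at this
  intro V PV g qV pV HV U' _ v
  let iV : PV ⟶ pullback p g := pullback.lift (qV ≫ i) pV (by rw [Category.assoc, hif, HV.w])
  have hiV : IsPullback qV iV i (pullback.fst p g) :=
    IsPullback.of_bot (v₂₁ := pullback.snd p g) (v₂₂ := p) (h₃₁ := g)
      (by rw [pullback.lift_snd, hif]; exact HV) (pullback.lift_fst _ _ _).symm (IsPullback.of_hasPullback p g)
  haveI : IsImmersion iV := MorphismProperty.of_isPullback hiV hi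
  haveI : IsFinite ((U'.ι ≫ iV) ≫ pullback.snd p g) := by rw [Category.assoc, pullback.lift_snd]; infer_instance
  haveI : IsFinite (U'.ι ≫ iV) := IsFinite.of_comp (U'.ι ≫ iV) (pullback.snd p g)
  let A : Set ↥(pullback p g) := Set.range (U'.ι ≫ iV)
  have hA : IsClosed A := (U'.ι ≫ iV).isClosedMap.isClosed_range
  -- everything of `K` outside `A`, together with the complement of `O`
  let F : Set ↥(pullback p g) := (pullback.fst p g ⁻¹' (O : Set ↥(Spec (CommRingCat.of B))))ᶜ ∪ iV '' (U' : Set PV)ᶜ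
  have hF : IsClosed F := by
    have hce : Topology.IsInducing iV := iV.isEmbedding.toIsInducing
    obtain ⟨F₀, hF₀, hF₀e⟩ := hce.isClosed_iff.1 U'.2.isClosed_compl
    have : F = (pullback.fst p g ⁻¹' (O : Set ↥(Spec (CommRingCat.of B))))ᶜ ∪ (F₀ ∩ pullback.fst p g ⁻¹' K) := by
      ext z
      constructor
      · rintro (h | ⟨a, ha, rfl⟩)
        · exact Or.inl h
        · refine Or.inr ⟨hF₀e.ge ha, ?_⟩
          show pullback.fst p g (iV a) ∈ K
          rw [← Scheme.Hom.comp_apply, pullback.lift_fst]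
          exact (hrange.le ⟨_, rfl⟩).1
      · rintro (h | ⟨hz, hzK⟩)
        · exact Or.inl h
        · by_cases hzO : pullback.fst p g z ∈ O
          · obtain ⟨x, hx⟩ := hrange.ge ⟨hzK, hzO⟩
            obtain ⟨a, -, ha⟩ := Scheme.exists_preimage_of_isPullback hiV x z hx
            exact Or.inr ⟨a, hF₀e.le (show iV a ∈ F₀ from ha.symm ▸ hz), ha⟩
          · exact Or.inl hzO
    rw [this]
    exact (O.2.preimage (pullback.fst p g).continuous).isClosed_compl.union
      (hF₀.inter (hK.preimage (pullback.fst p g).continuous))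
  have hAF : ∀ z ∈ A, z ∉ F := by
    rintro _ ⟨a, rfl⟩ (h | ⟨b, hb, he⟩)
    · refine h ?_
      show pullback.fst p g (iV (U'.ι a)) ∈ O
      rw [← Scheme.Hom.comp_apply, pullback.lift_fst]
      exact (hrange.le ⟨_, rfl⟩).2
    · exact hb (iV.isEmbedding.injective he ▸ a.2)
  obtain ⟨N₀, k₀, u, C₁, hk₀, hku, hC₁, hCA⟩ := exists_clopen_piece (pullback.snd p g) A v
  let π₁ := pullback.fst (pullback.snd p g) k₀
  let π₂ := pullback.snd (pullback.snd p g) k₀
  let E : Set ↥(pullback (pullback.snd p g) k₀) :=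
    ((C₁ : Set ↥(pullback (pullback.snd p g) k₀)) ∩ π₁ ⁻¹' F) ∪ (π₁ ⁻¹' A \ C₁)
  have hE : IsClosed E := (hC₁.1.inter (hF.preimage π₁.continuous)).union
    ((hA.preimage π₁.continuous).sdiff hC₁.2)
  have huE : u ∉ π₂ '' E := by
    rintro ⟨z, hz, hzu⟩
    rcases hz with ⟨hC, hzF⟩ | ⟨hzA, hC⟩
    · exact hAF _ ((hCA z hzu).1 hC) hzF
    · exact hC ((hCA z hzu).2 hzA)
  obtain ⟨N, hN, huN, hNE⟩ := exists_isAffineOpen_mem_and_subset
    (U := ⟨(π₂ '' E)ᶜ, (π₂.isClosedMap _ hE).isOpen_compl⟩) (x := u) huE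
  haveI : IsAffine N.toScheme := hN
  haveI := hk₀
  let k := N.ι ≫ k₀
  -- the clopen over `N`
  let μ : pullback p (k ≫ g) ⟶ pullback (pullback.snd p g) k₀ :=
    pullback.lift (pullback.lift (pullback.fst _ _) (pullback.snd _ _ ≫ k) (by rw [Category.assoc]; exact pullback.condition))
      (pullback.snd _ _ ≫ N.ι) ((pullback.lift_snd _ _ _).trans (Category.assoc _ _ _).symm)
  let C : (pullback p (k ≫ g)).Opens := μ ⁻¹ᵁ C₁
  have hC : IsClopen (C : Set ↥(pullback p (k ≫ g))) := hC₁.preimage μ.continuous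
  obtain ⟨h₀, hh₀, hC₀C⟩ := huniv N.toScheme (k ≫ g) C hC
  have hout : ∀ z : ↥(pullback p (k ≫ g)), μ z ∉ E := by
    intro z hz
    have h1 : π₂ (μ z) ∈ π₂ '' E := ⟨_, hz, rfl⟩
    rw [← Scheme.Hom.comp_apply, pullback.lift_snd] at h1
    exact hNE (pullback.snd p (k ≫ g) z).2 h1
  let lC := pullback.lift (f := p) (g := q₀) (pullback.fst p (k ≫ g)) (pullback.snd p (k ≫ g) ≫ h₀)
    ((pullback.condition.trans (congrArg (pullback.snd p (k ≫ g) ≫ ·) hh₀.symm)).trans (Category.assoc _ _ _).symm)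
  have hrg : Set.range h₀ ⊆ (T : Set T₀) := by
    rintro _ ⟨y, rfl⟩ ⟨d, ⟨hdC, hdO⟩, hdy⟩
    have hsq : IsPullback lC (pullback.snd p (k ≫ g)) (pullback.snd p q₀) h₀ := by
      refine IsPullback.of_right ?_ (pullback.lift_snd _ _ _) (IsPullback.of_hasPullback p q₀)
      rw [pullback.lift_fst, hh₀]
      exact IsPullback.of_hasPullback p (k ≫ g)
    obtain ⟨z, hz, -⟩ := Scheme.exists_preimage_of_isPullback hsq d y hdy
    refine hout z (Or.inl ⟨?_, Or.inl ?_⟩)
    · show z ∈ C
      rw [← hC₀C]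
      show lC z ∈ C₀
      rw [hz]; exact hdC
    · intro h'
      refine hdO ?_
      show pullback.fst p q₀ d ∈ O
      rw [← hz, ← Scheme.Hom.comp_apply, pullback.lift_fst]
      have h'' : (μ ≫ π₁ ≫ pullback.fst p g) z ∈ O := h'
      rwa [pullback.lift_fst_assoc, pullback.lift_fst] at h''
  let h : N.toScheme ⟶ T.toScheme := IsOpenImmersion.lift T.ι h₀ (by rw [Scheme.Opens.range_ι]; exact hrg)
  have hh' : h ≫ T.ι = h₀ := IsOpenImmersion.lift_fac ..
  refine ⟨N.toScheme, k, h, by rw [← Category.assoc, hh', hh₀], inferInstance, ⟨⟨u, huN⟩, hku⟩, ?_⟩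
  let HN := IsPullback.of_hasPullback f (k ≫ g)
  let iN : pullback f (k ≫ g) ⟶ pullback p (k ≫ g) :=
    pullback.lift (pullback.fst _ _ ≫ i) (pullback.snd _ _) ((Category.assoc _ _ _).trans ((congrArg (pullback.fst f (k ≫ g) ≫ ·) hif).trans pullback.condition))
  let b₁ := bcMap HV HN k rfl
  let b₂ := bcMap (IsPullback.of_hasPullback f q) HN h (by rw [← Category.assoc, hh', hh₀])
  have e2 : b₂ ≫ m = iN ≫ lC := by
    apply pullback.hom_ext
    · simp only [m, lC, iN, b₂, Category.assoc, pullback.lift_fst]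
      rw [reassoc_of% (bcMap_fst (IsPullback.of_hasPullback f q) HN h _)]
    · simp only [m, lC, iN, b₂, Category.assoc, pullback.lift_snd, pullback.lift_snd_assoc]
      rw [reassoc_of% (bcMap_snd (IsPullback.of_hasPullback f q) HN h _), hh']
  have e1 : iN ≫ μ ≫ π₁ = b₁ ≫ iV := by
    simp only [μ, π₁, pullback.lift_fst]
    apply pullback.hom_ext
    · simp only [iN, iV, b₁, Category.assoc, pullback.lift_fst, pullback.lift_fst_assoc]
      rw [reassoc_of% (bcMap_fst HV HN k rfl)]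
    · simp only [iN, iV, b₁, Category.assoc, pullback.lift_snd, pullback.lift_snd_assoc]
      rw [bcMap_snd HV HN k rfl]
  apply Opens.ext
  ext a
  show b₁ a ∈ U' ↔ m (b₂ a) ∈ C₀
  rw [← Scheme.Hom.comp_apply b₂ m, e2, Scheme.Hom.comp_apply]
  have hCC : ∀ z, lC z ∈ C₀ ↔ μ z ∈ C₁ := fun z => by
    have := SetLike.ext_iff.1 hC₀C z
    exact this
  rw [hCC]
  have hpt : π₁ (μ (iN a)) = iV (b₁ a) := by
    exact congrArg (fun φ => φ a) e1
  constructor
  · intro ha
    by_contra hn
    refine hout (iN a) (Or.inr ⟨?_, hn⟩)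
    show π₁ (μ (iN a)) ∈ A
    rw [hpt]
    exact ⟨⟨b₁ a, ha⟩, rfl⟩
  · intro hC'
    by_contra hn
    refine hout (iN a) (Or.inl ⟨hC', ?_⟩)
    show π₁ (μ (iN a)) ∈ F
    rw [hpt]
    exact Or.inr ⟨_, hn, rfl⟩

/-- Classifiers exist over affine bases. -/
theorem exists_classifier (f : X ⟶ S) [IsAffine X] [IsAffine S]
    [LocallyQuasiFinite f] [LocallyOfFinitePresentation f] :
    ∃ (T : Scheme.{u}) (q : T ⟶ S) (P : Scheme.{u}) (qX : P ⟶ X) (pT : P ⟶ T) (H : IsPullback qX pT f q)
      (U : P.Opens), CompactSpace T ∧ QuasiSeparatedSpace T ∧ IsClassifier f H U := by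
  let e := S.isoSpec
  obtain ⟨T, q', U, hT1, hT2, hfin, huniv⟩ := exists_classifier_spec (R := Γ(S, ⊤)) (f ≫ e.hom)
  have H : IsPullback (pullback.fst (f ≫ e.hom) q') (pullback.snd (f ≫ e.hom) q') f (q' ≫ e.inv) :=
    (IsPullback.of_hasPullback (f ≫ e.hom) q').of_iso (Iso.refl _) (Iso.refl _) (Iso.refl _) e.symm
      (by simp) (by simp) (by simp) (by simp)
  refine ⟨T, q' ≫ e.inv, _, _, _, H, U, hT1, hT2, hfin, ?_⟩
  intro V PV g qV pV HV U' _ v
  have HV' : IsPullback qV pV (f ≫ e.hom) (g ≫ e.hom) :=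
    HV.of_iso (Iso.refl _) (Iso.refl _) (Iso.refl _) e (by simp) (by simp) (by simp) (by simp)
  obtain ⟨N, k, h, hh, hk, hv, heq⟩ := huniv (g ≫ e.hom) HV' U' v
  have hh' : h ≫ q' ≫ e.inv = k ≫ g := by rw [reassoc_of% hh]; simp
  refine ⟨N, k, h, hh', hk, hv, ?_⟩
  let μ : pullback f (k ≫ g) ⟶ pullback (f ≫ e.hom) (k ≫ g ≫ e.hom) :=
    pullback.lift (pullback.fst _ _) (pullback.snd _ _) (by rw [pullback.condition_assoc, Category.assoc])
  have e1 : bcMap HV (IsPullback.of_hasPullback f (k ≫ g)) k rfl = μ ≫ bcMap HV' (IsPullback.of_hasPullback (f ≫ e.hom) (k ≫ g ≫ e.hom)) k rfl := by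
    apply HV.hom_ext
    · rw [bcMap_fst, Category.assoc, bcMap_fst HV']; exact (pullback.lift_fst _ _ _).symm
    · rw [bcMap_snd, Category.assoc, bcMap_snd HV']; exact (pullback.lift_snd_assoc _ _ _ _).symm
  have e2 : bcMap H (IsPullback.of_hasPullback f (k ≫ g)) h hh' = μ ≫ bcMap (IsPullback.of_hasPullback (f ≫ e.hom) q') (IsPullback.of_hasPullback (f ≫ e.hom) (k ≫ g ≫ e.hom)) h hh := by
    apply H.hom_ext
    · rw [bcMap_fst, Category.assoc, bcMap_fst]; exact (pullback.lift_fst _ _ _).symm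
    · rw [bcMap_snd, Category.assoc, bcMap_snd]; exact (pullback.lift_snd_assoc _ _ _ _).symm
  rw [e1, e2, Scheme.Hom.comp_preimage, Scheme.Hom.comp_preimage, heq]

end Groth.Agent.WeightDescend4
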