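import Groth.Agent.Lib.WeightDescend4.Criterion
import Groth.Agent.Lib.Weight4.Constr

/-!
# Constructibility of level sets of fibre integrals
-/

set_option autoImplicit false
set_option backward.isDefEq.respectTransparency.types false
universe u

open AlgebraicGeometry CategoryTheory Limits Topology Groth.Agent.Weight

namespace Groth.Agent.WeightDescend4

variable {U T : Scheme.{u}}

/-- Tuples of points of a finite scheme. -/
theorem exists_finite_tuples (π : U ⟶ T) [IsFinite π] [LocallyOfFinitePresentation π] (n : ℕ) :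
    ∃ (P : Scheme.{u}) (q : P ⟶ T) (e : Fin (n + 1) → (P ⟶ U)), IsFinite q ∧ LocallyOfFinitePresentation q ∧
      (∀ i, e i ≫ π = q) ∧
      ∀ (Z : Scheme.{u}) (s : Z ⟶ T) (a : Fin (n + 1) → (Z ⟶ U)), (∀ i, a i ≫ π = s) →
        ∃ t : Z ⟶ P, ∀ i, t ≫ e i = a i := by
  induction n with
  | zero =>
    exact ⟨U, π, fun _ => 𝟙 U, ‹_›, ‹_›, fun i => Category.id_comp π, fun Z s a ha => ⟨a 0, fun i => by
      rw [Category.comp_id, Subsingleton.elim (α := Fin 1) i 0]⟩⟩
  | succ n ih =>
    obtain ⟨P, q, e, hq, hq', he, hlift⟩ := ih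
    haveI := hq
    haveI := hq'
    refine ⟨pullback q π, pullback.fst q π ≫ q,
      Fin.lastCases (pullback.snd q π) (fun i => pullback.fst q π ≫ e i),
      inferInstance, inferInstance, fun i => ?_, fun Z s a ha => ?_⟩
    · induction i using Fin.lastCases with
      | last => simp only [Fin.lastCases_last, pullback.condition]
      | cast i => simp only [Fin.lastCases_castSucc, Category.assoc, he]
    · obtain ⟨t, ht⟩ := hlift Z s (fun i => a i.castSucc) (fun i => ha _)
      have hc : t ≫ q = a (Fin.last _) ≫ π := by rw [ha, ← he 0, ← Category.assoc, ht, ha]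
      refine ⟨pullback.lift t (a (Fin.last _)) hc, fun i => ?_⟩
      induction i using Fin.lastCases with
      | last => simp only [Fin.lastCases_last, pullback.lift_snd]
      | cast i => simp only [Fin.lastCases_castSucc, pullback.lift_fst_assoc, ht]

/-- The locus where two morphisms over a separated scheme agree at geometric points is constructible. -/
theorem exists_constructible_agree {P : Scheme.{u}} (π : U ⟶ T) [IsFinite π] [LocallyOfFinitePresentation π]
    [IsAffine T] (a b : P ⟶ U) (h : a ≫ π = b ≫ π) :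
    ∃ E : Set P, IsConstructible E ∧ ∀ {Ω : Type u} [Field Ω] [IsAlgClosed Ω]
      (t : Spec (CommRingCat.of Ω) ⟶ P), t ≫ a = t ≫ b ↔ pt t ∈ E := by
  haveI : LocallyOfFinitePresentation (pullback.diagonal π) := by
    haveI : LocallyOfFinitePresentation (pullback.diagonal π ≫ pullback.fst π π) := by
      rw [pullback.diagonal_fst]; infer_instance
    exact SchBasic.locallyOfFinitePresentation_of_comp (pullback.diagonal π) (pullback.fst π π)
  haveI : IsAffine U := isAffine_of_isAffineHom π
  haveI : IsAffine (pullback π π) := isAffine_of_isAffineHom (pullback.fst π π)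
  let l := pullback.lift a b h
  refine ⟨l ⁻¹' Set.range (pullback.diagonal π), l.isConstructible_preimage ?_, fun t => ⟨fun he => ?_, fun he => ?_⟩⟩
  · rw [← Set.image_univ]
    exact (pullback.diagonal π).isConstructible_image IsConstructible.univ
  · refine ⟨a (pt t), ?_⟩
    show pullback.diagonal π (a (pt t)) = l (pt t)
    rw [← pt_comp, ← pt_comp, ← pt_comp]
    congr 1
    apply pullback.hom_ext
    · simp only [l, Category.assoc, pullback.diagonal_fst, Category.comp_id, pullback.lift_fst]
    · simp only [l, Category.assoc, pullback.diagonal_snd, Category.comp_id, pullback.lift_snd, he]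
  · obtain ⟨z, hz⟩ := he
    obtain ⟨c, hc, hc'⟩ := Scheme.Pullback.exists_preimage_pullback (f := pullback.diagonal π) (g := l) z (pt t) hz
    obtain ⟨d, hd, -⟩ := exists_lift_of_eq (pullback.snd (pullback.diagonal π) l) c
      ((pullback.snd (pullback.diagonal π) l).quasiFiniteAt c) t hc'
    have e1 : t ≫ l = (d ≫ pullback.fst _ l) ≫ pullback.diagonal π := by
      rw [Category.assoc, pullback.condition, ← Category.assoc, hd]
    have e2 := congrArg (· ≫ pullback.fst π π) e1
    have e3 := congrArg (· ≫ pullback.snd π π) e1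
    simp only [l, Category.assoc, pullback.lift_fst, pullback.lift_snd, pullback.diagonal_fst, pullback.diagonal_snd] at e2 e3
    exact e2.trans e3.symm

/-- The locus with at least `m` geometric lifts in a constructible set is constructible. -/
theorem isConstructible_card_ge (π : U ⟶ T) [IsFinite π] [LocallyOfFinitePresentation π] [IsAffine T]
    {C : Set U} (hC : IsConstructible C) (m : ℕ) :
    IsConstructible {v : T | m ≤ Nat.card {b : Spec (CommRingCat.of (AlgebraicClosure (T.residueField v))) ⟶ U //
      b ≫ π = (exists_geomPt v).choose ∧ pt b ∈ C}} := by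
  classical
  rcases m with _ | m
  · simpa using IsConstructible.univ (X := T)
  obtain ⟨P, q, e, hq, hq', he, hlift⟩ := exists_finite_tuples π m
  haveI := hq
  haveI := hq'
  haveI : IsAffine P := isAffine_of_isAffineHom q
  choose E hE hEt using fun i j => exists_constructible_agree π (e i) (e j) ((he i).trans (he j).symm)
  let D : Set P := (⋂ i, e i ⁻¹' C) ∩ ⋂ ij : {ij : Fin (m + 1) × Fin (m + 1) // ij.1 ≠ ij.2}, (E ij.1.1 ij.1.2)ᶜ
  have hD : IsConstructible D := (IsConstructible.iInter fun i => (e i).isConstructible_preimage hC).inter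
    (IsConstructible.iInter fun ij => (hE _ _).compl)
  convert q.isConstructible_image hD using 1
  ext v
  let t := (exists_geomPt v).choose
  have ht : pt t = v := (exists_geomPt v).choose_spec
  haveI := finite_lifts π (fun z => π.quasiFiniteAt z) t (π.finite_preimage_singleton _)
  let L := {b : Spec (CommRingCat.of (AlgebraicClosure (T.residueField v))) ⟶ U // b ≫ π = t ∧ pt b ∈ C}
  haveI : Finite L := Finite.of_injective (fun b : L => (⟨b.1, b.2.1⟩ : {b // b ≫ π = t}))
    fun a b h => Subtype.ext (congrArg (fun x : {b // b ≫ π = t} => x.1) h)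
  letI := Fintype.ofFinite L
  show m + 1 ≤ Nat.card L ↔ _
  rw [Nat.card_eq_fintype_card]
  constructor
  · intro hm
    obtain ⟨emb⟩ := Function.Embedding.nonempty_of_card_le (α := Fin (m + 1)) (β := L) (by simpa using hm)
    obtain ⟨τ, hτ⟩ := hlift _ t (fun i => (emb i).1) (fun i => (emb i).2.1)
    refine ⟨pt τ, ⟨Set.mem_iInter.2 fun i => ?_, Set.mem_iInter.2 fun ij h => ?_⟩, ?_⟩
    · show e i (pt τ) ∈ C
      rw [← pt_comp, hτ]; exact (emb i).2.2
    · have := (hEt _ _ τ).2 h
      rw [hτ, hτ] at this
      exact ij.2 (emb.injective (Subtype.ext this))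
    · rw [← pt_comp, ← he 0, ← Category.assoc, hτ, (emb 0).2.1, ht]
  · rintro ⟨p, ⟨hpC, hpE⟩, hpv⟩
    obtain ⟨τ, hτ, hτp⟩ := exists_lift_of_eq q p (q.quasiFiniteAt p) t (hpv.trans ht.symm)
    let F : Fin (m + 1) → L := fun i => ⟨τ ≫ e i, by rw [Category.assoc, he, hτ], by
      rw [pt_comp, hτp]; exact Set.mem_iInter.1 hpC i⟩
    have hF : Function.Injective F := fun i j hij => by
      by_contra hne
      exact Set.mem_iInter.1 hpE ⟨(i, j), hne⟩ (hτp ▸ (hEt i j τ).1 (congrArg Subtype.val hij))
    simpa using Fintype.card_le_of_injective F hF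

/-- Level sets of fibre integrals of constructible functions are constructible. -/
theorem isConstructible_fibreIntegral (π : U ⟶ T) [IsFinite π] [LocallyOfFinitePresentation π] [IsAffine T]
    (w : U → ℤ) (hw : ∀ n, IsConstructible {z | w z = n}) (hfin : (Set.range w).Finite) (c : ℤ) :
    IsConstructible {v | MoreMor.fibreIntegral π w v = c} := by
  classical
  let R := hfin.toFinset
  let cnt : ℤ → T → ℕ := fun n v => Nat.card {b : Spec (CommRingCat.of (AlgebraicClosure (T.residueField v))) ⟶ U //
      b ≫ π = (exists_geomPt v).choose ∧ pt b ∈ {z | w z = n}}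
  have hsum : ∀ v, MoreMor.fibreIntegral π w v = ∑ n ∈ R, n * (cnt n v : ℤ) := by
    intro v
    let t := (exists_geomPt v).choose
    have ht : pt t = v := (exists_geomPt v).choose_spec
    haveI := finite_lifts π (fun z => π.quasiFiniteAt z) t (π.finite_preimage_singleton _)
    let L := {b : Spec (CommRingCat.of (AlgebraicClosure (T.residueField v))) ⟶ U // b ≫ π = t}
    letI := Fintype.ofFinite L
    rw [fibreIntegral_eq π (fun z => π.quasiFiniteAt z) w t v ht (π.finite_preimage_singleton _),
      finsum_eq_sum_of_fintype, ← Finset.sum_fiberwise_of_maps_to (g := fun b : L => w (pt b.1)) (t := R)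
        (fun b _ => hfin.mem_toFinset.2 ⟨_, rfl⟩)]
    refine Finset.sum_congr rfl fun n _ => ?_
    rw [Finset.sum_congr rfl (g := fun _ => n) (fun b hb => (Finset.mem_filter.1 hb).2), Finset.sum_const,
      nsmul_eq_mul, mul_comm]
    congr 2
    rw [← Fintype.card_subtype, ← Nat.card_eq_fintype_card]
    exact Nat.card_congr (Equiv.subtypeSubtypeEquivSubtypeInter (fun b => b ≫ π = t) (fun b => w (pt b) = n))
  have hlev : ∀ n m, IsConstructible {v | cnt n v = m} := fun n m => by
    convert (isConstructible_card_ge π (hw n) m).sdiff (isConstructible_card_ge π (hw n) (m + 1)) using 1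
    ext v
    show cnt n v = m ↔ m ≤ cnt n v ∧ ¬(m + 1 ≤ cnt n v)
    omega
  let K : T → Set T := fun v₀ => ⋂ n : R, {v | cnt n.1 v = cnt n.1 v₀}
  have hK : ∀ v₀, IsConstructible (K v₀) := fun v₀ => IsConstructible.iInter fun n => hlev _ _
  obtain ⟨s, hs⟩ := exists_finset_cover (Z := T) IsConstructible.univ K hK
    (fun v _ => Set.mem_iUnion.2 ⟨v, Set.mem_iInter.2 fun n => rfl⟩)
  have hconst : ∀ v₀ v, v ∈ K v₀ → MoreMor.fibreIntegral π w v = MoreMor.fibreIntegral π w v₀ := fun v₀ v hv => by
    rw [hsum, hsum]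
    refine Finset.sum_congr rfl fun n hn => ?_
    rw [show cnt n v = cnt n v₀ from Set.mem_iInter.1 hv ⟨n, hn⟩]
  have : {v | MoreMor.fibreIntegral π w v = c} =
      ⋃ i ∈ (↑(s.filter fun i => MoreMor.fibreIntegral π w i = c) : Set T), K i := by
    ext v
    simp only [Set.mem_iUnion, Finset.mem_coe, Finset.mem_filter]
    constructor
    · intro hv
      obtain ⟨i, hi, hvi⟩ := Set.mem_iUnion₂.1 (hs (Set.mem_univ v))
      exact ⟨i, ⟨hi, (hconst i v hvi).symm.trans hv⟩, hvi⟩
    · rintro ⟨i, ⟨-, hi⟩, hvi⟩
      exact (hconst i v hvi).trans hi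
  rw [this]
  exact IsConstructible.biUnion (Finset.finite_toSet _) fun i _ => hK i

/-- Level sets of fibre integrals over any base are locally constructible. -/
theorem isLocallyConstructible_fibreIntegral (π : U ⟶ T) [IsFinite π] [LocallyOfFinitePresentation π]
    (w : U → ℤ) (hw : ∀ n, IsConstructible {z | w z = n}) (hfin : (Set.range w).Finite) (c : ℤ) :
    IsLocallyConstructible {v | MoreMor.fibreIntegral π w v = c} := by
  intro v
  obtain ⟨V, hV, hv, -⟩ := exists_isAffineOpen_mem_and_subset (U := ⊤) (x := v) (Set.mem_univ v)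
  haveI : IsAffine V.toScheme := hV
  haveI : IsFinite (π ∣_ V) := MorphismProperty.of_isPullback (isPullback_morphismRestrict π V).flip ‹IsFinite π›
  haveI : LocallyOfFinitePresentation (π ∣_ V) :=
    MorphismProperty.of_isPullback (isPullback_morphismRestrict π V).flip ‹LocallyOfFinitePresentation π›
  refine ⟨V, V.2.mem_nhds hv, V.2, ?_⟩
  have hw' : ∀ n, IsConstructible {z : ↥(π ⁻¹ᵁ V).toScheme | (w ∘ ⇑(π ⁻¹ᵁ V).ι) z = n} := fun n =>
    (π ⁻¹ᵁ V).ι.isConstructible_preimage (hw n)
  have key := isConstructible_fibreIntegral (π ∣_ V) _ hw' (hfin.subset (Set.range_comp_subset_range _ _)) c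
  have e : ({y | MoreMor.fibreIntegral (π ∣_ V) (w ∘ ⇑(π ⁻¹ᵁ V).ι) y = c} : Set V.toScheme) =
      {y | MoreMor.fibreIntegral π w (V.ι y) = c} := by
    ext y
    show MoreMor.fibreIntegral _ _ y = c ↔ _
    rw [Weight.fibreIntegral_baseChange (fun x => π.finite_preimage_singleton x) (isPullback_morphismRestrict π V).flip w y]
    rfl
  rw [e] at key
  exact key

end Groth.Agent.WeightDescend4
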