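import Groth.Agent.Lib.WeightDescend4.Classifier
import Groth.Agent.Lib.Weight4.Basic

/-!
# A weighting criterion through a classifier of finite open pieces
-/

set_option autoImplicit false
set_option backward.isDefEq.respectTransparency.types false
universe u

open AlgebraicGeometry CategoryTheory Limits Groth.Agent.Weight

namespace Groth.Agent.WeightDescend4

variable {X Y P T P' T' : Scheme.{u}} {f : X ⟶ Y} {g : T ⟶ Y} {qX : P ⟶ X} {p : P ⟶ T}
  {g' : T' ⟶ Y} {qX' : P' ⟶ X} {p' : P' ⟶ T'}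

theorem fibreIntegral_bcMap (H : IsPullback qX p f g) (H' : IsPullback qX' p' f g') (h : T' ⟶ T)
    (hg : h ≫ g = g') (A : P.Opens) [IsFinite (A.ι ≫ p)] (φ : P → ℤ) (v : T') :
    MoreMor.fibreIntegral ((bcMap H H' h hg ⁻¹ᵁ A).ι ≫ p')
      (fun z => φ (bcMap H H' h hg ((bcMap H H' h hg ⁻¹ᵁ A).ι z))) v =
    MoreMor.fibreIntegral (A.ι ≫ p) (fun z => φ (A.ι z)) (h v) := by
  have hsq := (isPullback_morphismRestrict (bcMap H H' h hg) A).paste_vert (isPullback_bcMap H H' h hg)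
  rw [← Weight.fibreIntegral_baseChange (fun y => (A.ι ≫ p).finite_preimage_singleton y) hsq (fun z => φ (A.ι z)) v]
  congr 1
  funext z
  show φ _ = φ _
  congr 1
  exact congrArg (fun m => m z) (morphismRestrict_ι (bcMap H H' h hg) A).symm

/-- Local constancy of one fibre integral implies the weighting property. -/
theorem isWeighting_of_classifier {X0 S : Scheme.{u}} {f0 : X0 ⟶ S} {T0 P0 : Scheme.{u}}
    {qX0 : P0 ⟶ X0} {pT : P0 ⟶ T0} {q : T0 ⟶ S} {H0 : IsPullback qX0 pT f0 q} {U : P0.Opens}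
    (hc : IsClassifier f0 H0 U) {X' S' : Scheme.{u}} {f' : X' ⟶ S'} {pX : X' ⟶ X0} {s : S' ⟶ S}
    (hX : IsPullback pX f' f0 s) (w : X' → ℤ) {T1 : Scheme.{u}} {qT : T1 ⟶ T0} {sT : T1 ⟶ S'}
    (HT : IsPullback qT sT q s) {P1 : Scheme.{u}} {qX1 : P1 ⟶ X'} {p1 : P1 ⟶ T1}
    (H1 : IsPullback qX1 p1 f' sT) (A : P1.Opens)
    (hA : bcMap H0 (H1.paste_horiz hX) qT HT.w ⁻¹ᵁ U = A)
    (hlc : IsLocallyConstant (MoreMor.fibreIntegral (A.ι ≫ p1) (fun z => w (qX1 (A.ι z))))) :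
    MoreMor.IsWeighting f' w := by
  intro V g _ U' hU'
  haveI := hU'
  haveI := hc.finite
  haveI : IsFinite (A.ι ≫ p1) := by
    rw [← hA]; exact isFinite_preimage H0 (H1.paste_horiz hX) qT HT.w U
  let GV := MoreMor.fibreIntegral (U'.ι ≫ pullback.snd f' g) (fun z => w (pullback.fst f' g (U'.ι z)))
  refine (IsLocallyConstant.iff_exists_open _).2 fun v => ?_
  let HV := (IsPullback.of_hasPullback f' g).paste_horiz hX
  obtain ⟨N, k, h, hh, hk, ⟨u, rfl⟩, heq⟩ := hc.univ (g ≫ s) HV U' v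
  haveI := hk
  let h' : N ⟶ T1 := HT.lift h (k ≫ g) (hh.trans (Category.assoc _ _ _).symm)
  have hh' : h' ≫ sT ≫ s = k ≫ g ≫ s := by
    rw [← Category.assoc h' sT s, HT.lift_snd, Category.assoc]
  let HN := IsPullback.of_hasPullback f0 (k ≫ g ≫ s)
  let b₁ := bcMap HV HN k rfl
  let b₃ := bcMap (H1.paste_horiz hX) HN h' hh'
  have e₂ : b₃ ≫ bcMap H0 (H1.paste_horiz hX) qT HT.w = bcMap H0 HN h hh := by
    apply H0.hom_ext
    · rw [Category.assoc, bcMap_fst, bcMap_fst, bcMap_fst]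
    · rw [Category.assoc, bcMap_snd, bcMap_snd]
      refine ((reassoc_of% (bcMap_snd (H1.paste_horiz hX) HN h' hh')) qT).trans ?_
      rw [HT.lift_fst]
  have e₃ : b₃ ≫ qX1 = b₁ ≫ pullback.fst f' g := by
    apply hX.hom_ext
    · rw [Category.assoc, Category.assoc, bcMap_fst, bcMap_fst]
    · rw [Category.assoc, Category.assoc, H1.w, pullback.condition]
      refine ((reassoc_of% (bcMap_snd (H1.paste_horiz hX) HN h' hh')) sT).trans ?_
      rw [HT.lift_snd]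
      exact ((reassoc_of% (bcMap_snd HV HN k rfl)) g).symm
  have hpre : b₁ ⁻¹ᵁ U' = b₃ ⁻¹ᵁ A := by
    rw [← hA, ← Scheme.Hom.comp_preimage, e₂]; exact heq
  have key : ∀ y : N, GV (k y) = MoreMor.fibreIntegral (A.ι ≫ p1) (fun z => w (qX1 (A.ι z))) (h' y) := by
    intro y
    refine (fibreIntegral_bcMap HV HN k rfl U' (fun z => w (pullback.fst f' g z)) y).symm.trans
      (Eq.trans ?_ (fibreIntegral_bcMap (H1.paste_horiz hX) HN h' hh' A (fun z => w (qX1 z)) y))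
    have gen : ∀ B, b₁ ⁻¹ᵁ U' = B → MoreMor.fibreIntegral ((b₁ ⁻¹ᵁ U').ι ≫ pullback.snd f0 (k ≫ g ≫ s))
          (fun z => w (pullback.fst f' g (b₁ ((b₁ ⁻¹ᵁ U').ι z)))) y =
        MoreMor.fibreIntegral (B.ι ≫ pullback.snd f0 (k ≫ g ≫ s)) (fun z => w (qX1 (b₃ (B.ι z)))) y := by
      rintro _ rfl
      congr 1
      funext z
      exact congrArg w (congrArg (fun m => m ((b₁ ⁻¹ᵁ U').ι z)) e₃.symm)
    exact gen _ hpre
  refine ⟨k '' {y | GV (k y) = GV (k u)}, isOpenMap_of_etale k _ ?_, ⟨u, rfl, rfl⟩,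
    by rintro _ ⟨y, hy, rfl⟩; exact hy⟩
  have hc' := (hlc.comp_continuous h'.continuous).isOpen_fiber (GV (k u))
  convert hc' using 1
  ext y
  show GV (k y) = _ ↔ _ = _
  rw [key y]
  rfl

end Groth.Agent.WeightDescend4
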