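import Mathlib

/-!
# Finite free covers and classifiers of clopen subsets
-/

set_option autoImplicit false
set_option backward.isDefEq.respectTransparency.types false
universe u

open TensorProduct CategoryTheory CategoryTheory.Limits AlgebraicGeometry

namespace Groth.Agent.WeightDescend4

variable {R : Type u} [CommRing R]

/-- A finite algebra is a quotient of a finite free one. -/
theorem exists_free_cover (S : Type u) [CommRing S] [Algebra R S] [Module.Finite R S] :
    ∃ (B : Type u) (_ : CommRing B) (_ : Algebra R B), Module.Free R B ∧ Module.Finite R B ∧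
      ∃ φ : B →ₐ[R] S, Function.Surjective φ := by
  classical
  obtain ⟨s, hs⟩ := (Module.Finite.fg_top : (⊤ : Submodule R S).FG)
  suffices h : ∀ t : Finset S, ∃ (B : Type u) (_ : CommRing B) (_ : Algebra R B), Module.Free R B ∧ Module.Finite R B ∧
      ∃ φ : B →ₐ[R] S, (t : Set S) ⊆ φ.range by
    obtain ⟨B, _, _, h1, h2, φ, hφ⟩ := h s
    refine ⟨B, _, _, h1, h2, φ, fun x => ?_⟩
    have : x ∈ Submodule.span R (s : Set S) := hs ▸ Submodule.mem_top
    exact Submodule.span_le (p := Subalgebra.toSubmodule φ.range).2 hφ this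
  intro t
  induction t using Finset.induction with
  | empty => exact ⟨R, inferInstance, inferInstance, inferInstance, inferInstance, Algebra.ofId R S, by simp⟩
  | insert b t _ ih =>
    obtain ⟨B, _, _, hB1, hB2, φ, hφ⟩ := ih
    obtain ⟨p, hp, hpb⟩ := Algebra.IsIntegral.isIntegral (R := R) b
    haveI : Module.Free R (AdjoinRoot p) := Module.Free.of_basis (AdjoinRoot.powerBasis' hp).basis
    haveI : Module.Finite R (AdjoinRoot p) := hp.finite_adjoinRoot
    let ψ : AdjoinRoot p →ₐ[R] S := AdjoinRoot.liftAlgHom p (Algebra.ofId R S) b hpb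
    refine ⟨B ⊗[R] AdjoinRoot p, inferInstance, inferInstance, inferInstance, inferInstance,
      Algebra.TensorProduct.lift φ ψ (fun _ _ => Commute.all _ _), ?_⟩
    intro x hx
    rw [Finset.coe_insert, Set.mem_insert_iff] at hx
    rcases hx with rfl | hx
    · exact ⟨1 ⊗ₜ AdjoinRoot.root p, by simp [ψ]⟩
    · obtain ⟨y, hy⟩ := hφ hx
      exact ⟨y ⊗ₜ 1, by simpa using hy⟩

/-- The classifier of idempotents of a finite free algebra. -/
theorem exists_idem_classifier (B : Type u) [CommRing B] [Algebra R B] [Module.Free R B] [Module.Finite R B] :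
    ∃ (T : Type u) (_ : CommRing T) (_ : Algebra R T) (e : T ⊗[R] B), IsIdempotentElem e ∧
      ∀ (C : Type u) [CommRing C] [Algebra R C] (c : C ⊗[R] B), IsIdempotentElem c →
        ∃ φ : T →ₐ[R] C, Algebra.TensorProduct.map φ (AlgHom.id R B) e = c := by
  classical
  let ι := Module.Free.ChooseBasisIndex R B
  let b := Module.Free.chooseBasis R B
  let P := MvPolynomial ι R
  let e₀ : P ⊗[R] B := ∑ i, (MvPolynomial.X i : P) ⊗ₜ b i
  let bP := Algebra.TensorProduct.basis P b
  let I : Ideal P := Ideal.span (Set.range fun i => bP.repr (e₀ * e₀ - e₀) i)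
  let T := P ⧸ I
  let π : P →ₐ[R] T := Ideal.Quotient.mkₐ R I
  refine ⟨T, inferInstance, inferInstance, Algebra.TensorProduct.map π (AlgHom.id R B) e₀, ?_, ?_⟩
  · rw [IsIdempotentElem, ← sub_eq_zero, ← map_mul, ← map_sub]
    conv_lhs => rw [← bP.sum_repr (e₀ * e₀ - e₀)]
    rw [map_sum]
    refine Finset.sum_eq_zero fun i _ => ?_
    rw [show bP.repr (e₀ * e₀ - e₀) i • bP i = bP.repr (e₀ * e₀ - e₀) i ⊗ₜ[R] b i by
      rw [Algebra.TensorProduct.basis_apply, TensorProduct.smul_tmul', smul_eq_mul, mul_one],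
      Algebra.TensorProduct.map_tmul,
      show π (bP.repr (e₀ * e₀ - e₀) i) = 0 from Ideal.Quotient.eq_zero_iff_mem.2 (Ideal.subset_span ⟨i, rfl⟩),
      zero_tmul]
  · intro C _ _ c hc
    let bC := Algebra.TensorProduct.basis C b
    let ev : P →ₐ[R] C := MvPolynomial.aeval fun i => bC.repr c i
    have hev : Algebra.TensorProduct.map ev (AlgHom.id R B) e₀ = c := by
      conv_rhs => rw [← bC.sum_repr c]
      rw [map_sum]
      refine Finset.sum_congr rfl fun i _ => ?_
      rw [Algebra.TensorProduct.map_tmul, Algebra.TensorProduct.basis_apply, TensorProduct.smul_tmul',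
        smul_eq_mul, mul_one, show ev (MvPolynomial.X i) = bC.repr c i from MvPolynomial.aeval_X _ _]
      rfl
    have hI : I ≤ RingHom.ker ev := by
      rw [Ideal.span_le]
      rintro _ ⟨i, rfl⟩
      show ev (bP.repr (e₀ * e₀ - e₀) i) = 0
      have h0 : Algebra.TensorProduct.map ev (AlgHom.id R B) (e₀ * e₀ - e₀) = 0 := by
        rw [map_sub, map_mul, hev, hc.eq, sub_self]
      rw [← bP.sum_repr (e₀ * e₀ - e₀), map_sum] at h0
      have h1 : ∑ j, ev (bP.repr (e₀ * e₀ - e₀) j) • bC j = 0 := by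
        rw [← h0]
        refine Finset.sum_congr rfl fun j _ => ?_
        rw [Algebra.TensorProduct.basis_apply, Algebra.TensorProduct.basis_apply, TensorProduct.smul_tmul',
          TensorProduct.smul_tmul', smul_eq_mul, mul_one, smul_eq_mul, mul_one, Algebra.TensorProduct.map_tmul]
        rfl
      exact Fintype.linearIndependent_iff.1 bC.linearIndependent _ h1 i
    refine ⟨Ideal.Quotient.liftₐ I ev fun a ha => hI ha, ?_⟩
    rw [← hev, ← AlgHom.comp_apply, ← Algebra.TensorProduct.map_comp]
    rfl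

/-- Naturality of the identification of pullbacks with tensor products. -/
theorem specIso_natural (B T C : Type u) [CommRing B] [Algebra R B] [CommRing T] [Algebra R T] [CommRing C] [Algebra R C]
    (φ : T →ₐ[R] C) :
    (pullbackSpecIso R C B).hom ≫ Spec.map (CommRingCat.ofHom (Algebra.TensorProduct.map φ (AlgHom.id R B)).toRingHom) ≫
        (pullbackSpecIso R T B).inv ≫ pullback.fst _ _ = pullback.fst _ _ ≫ Spec.map (CommRingCat.ofHom φ.toRingHom) ∧
    (pullbackSpecIso R C B).hom ≫ Spec.map (CommRingCat.ofHom (Algebra.TensorProduct.map φ (AlgHom.id R B)).toRingHom) ≫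
        (pullbackSpecIso R T B).inv ≫ pullback.snd _ _ = pullback.snd _ _ := by
  constructor
  · rw [pullbackSpecIso_inv_fst, ← Spec.map_comp, ← pullbackSpecIso_hom_fst, Category.assoc, ← Spec.map_comp]
    congr 2
  · rw [pullbackSpecIso_inv_snd, ← Spec.map_comp, ← pullbackSpecIso_hom_snd]
    congr 2
    ext x
    simp

set_option maxHeartbeats 800000 in
/-- The classifier of clopen subsets of base changes of a finite free affine morphism. -/
theorem exists_clopen_classifier (B : Type u) [CommRing B] [Algebra R B] [Module.Free R B] [Module.Finite R B] :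
    ∃ (T : Scheme.{u}) (q : T ⟶ Spec (CommRingCat.of R))
      (C₀ : (pullback (Spec.map (CommRingCat.ofHom (algebraMap R B))) q).Opens),
      IsAffine T ∧ IsClopen (C₀ : Set ↥(pullback (Spec.map (CommRingCat.ofHom (algebraMap R B))) q)) ∧
      ∀ (N : Scheme.{u}) [IsAffine N] (g : N ⟶ Spec (CommRingCat.of R))
        (C : (pullback (Spec.map (CommRingCat.ofHom (algebraMap R B))) g).Opens),
        IsClopen (C : Set ↥(pullback (Spec.map (CommRingCat.ofHom (algebraMap R B))) g)) →
        ∃ (h : N ⟶ T) (hh : h ≫ q = g),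
          pullback.lift (pullback.fst _ g) (pullback.snd _ g ≫ h) (by rw [Category.assoc, hh, pullback.condition])
            ⁻¹ᵁ C₀ = C := by
  obtain ⟨T, _, _, e, he, huniv⟩ := exists_idem_classifier (R := R) B
  let p := Spec.map (CommRingCat.ofHom (algebraMap R B))
  let q := Spec.map (CommRingCat.ofHom (algebraMap R T))
  let iso := (pullbackSymmetry p q) ≪≫ pullbackSpecIso R T B
  refine ⟨Spec (CommRingCat.of T), q, iso.hom ⁻¹ᵁ (PrimeSpectrum.basicOpen e), inferInstance, ?_, ?_⟩
  · exact (PrimeSpectrum.isClopen_iff.2 ⟨e, he, rfl⟩).preimage iso.hom.continuous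
  intro N _ g C hC
  obtain ⟨γ, hγ⟩ : ∃ γ, Spec.map γ = N.isoSpec.inv ≫ g := Spec.map_surjective _
  letI : Algebra R Γ(N, ⊤) := γ.hom.toAlgebra
  have hg : g = N.isoSpec.hom ≫ Spec.map (CommRingCat.ofHom (algebraMap R Γ(N, ⊤))) := by
    rw [show Spec.map (CommRingCat.ofHom (algebraMap R Γ(N, ⊤))) = Spec.map γ from rfl, hγ, Iso.hom_inv_id_assoc]
  let g' := Spec.map (CommRingCat.ofHom (algebraMap R Γ(N, ⊤)))
  let m : pullback p g ≅ pullback p g' :=
    asIso (pullback.map p g p g' (𝟙 _) N.isoSpec.hom (𝟙 _) (by simp) (by rw [Category.comp_id, hg]))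
  let iso' := (pullbackSymmetry p g') ≪≫ pullbackSpecIso R Γ(N, ⊤) B
  let j := m.hom ≫ iso'.hom
  obtain ⟨c, hc, hcC⟩ := PrimeSpectrum.isClopen_iff.1 (hC.preimage (inv j).continuous)
  obtain ⟨φ, hφ⟩ := huniv Γ(N, ⊤) c hc
  have hφq : Spec.map (CommRingCat.ofHom φ.toRingHom) ≫ q = g' := by
    rw [← Spec.map_comp]
    congr 1
    ext r
    exact φ.commutes r
  let h : N ⟶ Spec (CommRingCat.of T) := N.isoSpec.hom ≫ Spec.map (CommRingCat.ofHom φ.toRingHom)
  have hh : h ≫ q = g := by rw [Category.assoc, hφq, hg]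
  refine ⟨h, hh, ?_⟩
  have key : pullback.lift (pullback.fst p g) (pullback.snd p g ≫ h) (by rw [Category.assoc, hh, pullback.condition]) ≫
      iso.hom = j ≫ Spec.map (CommRingCat.ofHom (Algebra.TensorProduct.map φ (AlgHom.id R B)).toRingHom) := by
    rw [← Iso.eq_comp_inv]
    obtain ⟨n1, n2⟩ := specIso_natural (R := R) B T Γ(N, ⊤) φ
    apply pullback.hom_ext
    · rw [pullback.lift_fst]
      simp only [j, iso, iso', Iso.trans_inv, Iso.trans_hom, Category.assoc, pullbackSymmetry_inv_comp_fst]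
      erw [n2, pullbackSymmetry_hom_comp_snd]
      simp only [m, asIso_hom, pullback.map]
      erw [pullback.lift_fst, Category.comp_id]
    · rw [pullback.lift_snd]
      simp only [j, iso, iso', Iso.trans_inv, Iso.trans_hom, Category.assoc, pullbackSymmetry_inv_comp_snd]
      erw [n1, pullbackSymmetry_hom_comp_fst_assoc]
      simp only [m, h, asIso_hom, pullback.map]
      erw [pullback.lift_snd_assoc, Category.assoc]
  rw [← Scheme.Hom.comp_preimage, key, Scheme.Hom.comp_preimage]
  have hb : Spec.map (CommRingCat.ofHom (Algebra.TensorProduct.map φ (AlgHom.id R B)).toRingHom) ⁻¹ᵁ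
      (PrimeSpectrum.basicOpen e) = PrimeSpectrum.basicOpen c := by
    rw [← hφ]
    exact PrimeSpectrum.comap_basicOpen _ e
  rw [Scheme.Hom.comp_preimage, hb]
  apply TopologicalSpace.Opens.ext
  show j ⁻¹' (PrimeSpectrum.basicOpen c : Set (PrimeSpectrum _)) = _
  rw [← hcC]
  ext z
  show inv j (j z) ∈ C ↔ z ∈ C
  rw [← Scheme.Hom.comp_apply, IsIso.hom_inv_id]
  rfl

end Groth.Agent.WeightDescend4
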