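import Groth.Agent.Lib.WeightDescend4.Count
import Groth.Agent.Lib.LimH13.Constr
import Groth.Agent.Lib.Descend.Stage

/-!
# Weightings descend along limits of affine schemes
-/

set_option autoImplicit false
set_option backward.isDefEq.respectTransparency.types false
universe u

open AlgebraicGeometry CategoryTheory Limits Topology Groth.Agent.Weight

namespace Groth.Agent.WeightDescend4

section Limit

variable {I : Type u} [SmallCategory I] [IsCofiltered I] {D : I ⥤ Scheme.{u}} {c : Cone D}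
  [∀ {i j : I} (a : i ⟶ j), IsAffineHom (D.map a)] [∀ i, CompactSpace (D.obj i)]
  [∀ i, QuasiSeparatedSpace (D.obj i)]

/-- A constructible function on the limit comes from a stage. -/
theorem exists_stage_function (hc : IsLimit c) (k0 : I) (w : c.pt → ℤ)
    (hw : ∀ n, IsConstructible {x | w x = n}) (R : Finset ℤ) :
    ∃ (k : I) (wk : D.obj k → ℤ), (∀ n, IsConstructible {x | wk x = n}) ∧ (Set.range wk).Finite ∧
      ∀ x, w x ∈ R → wk (c.π.app k x) = w x := by
  classical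
  induction R using Finset.induction with
  | empty =>
    refine ⟨k0, fun _ => 0, fun n => ?_, Set.finite_range_const, fun x hx => absurd hx (Finset.notMem_empty _)⟩
    by_cases h : (0 : ℤ) = n
    · simpa [h] using IsConstructible.univ (X := D.obj k0)
    · simpa [h] using IsConstructible.empty (X := D.obj k0)
  | insert n R hn ih =>
    obtain ⟨k, wk, hlev, hfin, heq⟩ := ih
    obtain ⟨j, b, Z, hZ, hZe⟩ := LimH13.exists_isConstructible_preimage hc k _ (hw n)
    let Z' : Set (D.obj j) := Z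
    refine ⟨j, fun x => if x ∈ Z' then n else wk (D.map b x), fun m => ?_, ?_, fun x hx => ?_⟩
    · have : {x | (if x ∈ Z' then n else wk (D.map b x)) = m} =
          (if n = m then Z' else ∅) ∪ (Z'ᶜ ∩ D.map b ⁻¹' {x | wk x = m}) := by
        ext x
        by_cases h : x ∈ Z' <;> by_cases h' : n = m <;> simp [h, h']
      rw [this]
      refine IsConstructible.union ?_ (hZ.compl.inter ((D.map b).isConstructible_preimage (hlev m)))
      split_ifs
      exacts [hZ, IsConstructible.empty]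
    · refine (hfin.insert n).subset ?_
      rintro _ ⟨x, rfl⟩
      dsimp only
      split_ifs
      exacts [Or.inl rfl, Or.inr ⟨_, rfl⟩]
    · have hmem : c.π.app j x ∈ Z' ↔ w x = n := Set.ext_iff.1 hZe x
      show (if c.π.app j x ∈ Z' then n else wk (D.map b (c.π.app j x))) = w x
      by_cases h : w x = n
      · rw [if_pos (hmem.2 h), h]
      · rw [if_neg (hmem.not.2 h), show D.map b (c.π.app j x) = c.π.app k x from
          congrArg (fun m => m x) (c.w b)]
        exact heq x ((Finset.mem_insert.1 hx).resolve_left h)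

/-- A constructible function which is locally constant on the limit is locally constant at a stage. -/
theorem exists_stage_isLocallyConstant (hc : IsLimit c) (k : I) (G : D.obj k → ℤ)
    (hG : ∀ n, IsConstructible {x | G x = n}) (h : IsLocallyConstant (G ∘ ⇑(c.π.app k))) :
    ∃ (j : I) (a : j ⟶ k), IsLocallyConstant (G ∘ ⇑(D.map a)) := by
  classical
  haveI := LimH13.compactSpace_pt hc k
  haveI : CompactSpace ↥(((Functor.const I).obj c.pt).obj k) := ‹CompactSpace c.pt›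
  let R := h.range_finite.toFinset
  choose j a hj using fun n : R => LimH13.exists_isOpen_preimage hc k _ (hG n.1) (h.isOpen_fiber n.1)
  obtain ⟨m, b, e, he⟩ := IsCofiltered.wideCospan a
  obtain ⟨j', a', ha'⟩ := Descend.exists_preimage_eq_univ_of_isConstructible hc (i := m)
    (D.map b ⁻¹' ⋃ n : R, {x | G x = n.1})
    ((D.map b).isConstructible_preimage (IsConstructible.iUnion fun n : R => hG _)) (by
      rw [LimH13.preimage_map_eq, Set.eq_univ_iff_forall]
      intro x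
      exact Set.mem_iUnion.2 ⟨⟨_, h.range_finite.mem_toFinset.2 ⟨x, rfl⟩⟩, rfl⟩)
  refine ⟨j', a' ≫ b, IsLocallyConstant.iff_isOpen_fiber.2 fun n => ?_⟩
  by_cases hn : n ∈ R
  · have e1 : (G ∘ ⇑(D.map (a' ≫ b))) ⁻¹' {n} = D.map (a' ≫ e ⟨n, hn⟩) ⁻¹' (D.map (a ⟨n, hn⟩) ⁻¹' {x | G x = n}) := by
      conv_lhs => rw [← he ⟨n, hn⟩, ← Category.assoc, D.map_comp]
      rfl
    rw [e1]
    exact (hj ⟨n, hn⟩).preimage (D.map _).continuous
  · rw [show (G ∘ ⇑(D.map (a' ≫ b))) ⁻¹' {n} = ∅ from Set.eq_empty_iff_forall_notMem.2 fun x hx => ?_]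
    · exact isOpen_empty
    · obtain ⟨r, hr⟩ := Set.mem_iUnion.1 (ha'.ge (Set.mem_univ x))
      refine hn ?_
      have : G (D.map (a' ≫ b) x) = r.1 := by rw [D.map_comp]; exact hr
      rw [show n = r.1 from hx.symm.trans this]
      exact r.2

end Limit

variable {X0 S T0 P0 : Scheme.{u}} {f0 : X0 ⟶ S} {qX0 : P0 ⟶ X0} {pT : P0 ⟶ T0} {q : T0 ⟶ S}
  (H0 : IsPullback qX0 pT f0 q) (U : P0.Opens)
  {X1 S1 T1 P1 X2 S2 T2 P2 : Scheme.{u}} {f1 : X1 ⟶ S1} {pX1 : X1 ⟶ X0} {s1 : S1 ⟶ S}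
  (hX1 : IsPullback pX1 f1 f0 s1) {qT1 : T1 ⟶ T0} {sT1 : T1 ⟶ S1} (hT1 : IsPullback qT1 sT1 q s1)
  {qX1 : P1 ⟶ X1} {p1 : P1 ⟶ T1} (H1 : IsPullback qX1 p1 f1 sT1)
  {f2 : X2 ⟶ S2} {pX2 : X2 ⟶ X0} {s2 : S2 ⟶ S} (hX2 : IsPullback pX2 f2 f0 s2)
  {qT2 : T2 ⟶ T0} {sT2 : T2 ⟶ S2} (hT2 : IsPullback qT2 sT2 q s2)
  {qX2 : P2 ⟶ X2} {p2 : P2 ⟶ T2} (H2 : IsPullback qX2 p2 f2 sT2)
  {g12 : X2 ⟶ X1} {s12 : S2 ⟶ S1} {tT : T2 ⟶ T1} (hX12 : IsPullback g12 f2 f1 s12)
  (hT12 : IsPullback tT sT2 sT1 s12) (hgX : g12 ≫ pX1 = pX2) (htT : tT ≫ qT1 = qT2)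

include hgX htT in
theorem classified_comp :
    bcMap H0 (H2.paste_horiz hX2) qT2 hT2.w ⁻¹ᵁ U =
      bcMap H1 (H2.paste_horiz hX12) tT hT12.w ⁻¹ᵁ (bcMap H0 (H1.paste_horiz hX1) qT1 hT1.w ⁻¹ᵁ U) := by
  rw [← Scheme.Hom.comp_preimage]
  suffices e : bcMap H0 (H2.paste_horiz hX2) qT2 hT2.w =
      bcMap H1 (H2.paste_horiz hX12) tT hT12.w ≫ bcMap H0 (H1.paste_horiz hX1) qT1 hT1.w by rw [e]
  apply H0.hom_ext
  · rw [bcMap_fst, Category.assoc, bcMap_fst, ← Category.assoc, bcMap_fst, Category.assoc, hgX]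
  · rw [bcMap_snd, Category.assoc, bcMap_snd, ← Category.assoc, bcMap_snd, Category.assoc, htT]

include hX12 hT12 hgX htT in
theorem fibreIntegral_classified [IsFinite (U.ι ≫ pT)] (w : X1 → ℤ) :
    MoreMor.fibreIntegral ((bcMap H0 (H2.paste_horiz hX2) qT2 hT2.w ⁻¹ᵁ U).ι ≫ p2)
        (fun z => w (g12 (qX2 ((bcMap H0 (H2.paste_horiz hX2) qT2 hT2.w ⁻¹ᵁ U).ι z)))) =
      MoreMor.fibreIntegral ((bcMap H0 (H1.paste_horiz hX1) qT1 hT1.w ⁻¹ᵁ U).ι ≫ p1)
        (fun z => w (qX1 ((bcMap H0 (H1.paste_horiz hX1) qT1 hT1.w ⁻¹ᵁ U).ι z))) ∘ ⇑tT := by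
  haveI : IsFinite ((bcMap H0 (H1.paste_horiz hX1) qT1 hT1.w ⁻¹ᵁ U).ι ≫ p1) :=
    isFinite_preimage H0 (H1.paste_horiz hX1) qT1 hT1.w U
  rw [classified_comp H0 U hX1 hT1 H1 hX2 hT2 H2 hX12 hT12 hgX htT]
  funext v
  refine Eq.trans ?_ (fibreIntegral_bcMap H1 (H2.paste_horiz hX12) tT hT12.w _ (fun z => w (qX1 z)) v)
  congr 1
  funext z
  have e := bcMap_fst H1 (H2.paste_horiz hX12) tT hT12.w
  refine congrArg w ?_
  show (qX2 ≫ g12) _ = (bcMap H1 (H2.paste_horiz hX12) tT hT12.w ≫ qX1) _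
  rw [e]

/-- Weightings descend along cofiltered limits of affine schemes. -/
theorem exists_descend {I : Type u} [SmallCategory I] [IsCofiltered I]
    (D : I ⥤ Scheme.{u}) (c : Cone D) (hc : IsLimit c) [∀ i, IsAffine (D.obj i)]
    (i0 : I) {X0 X : Scheme.{u}} [IsAffine X0] (f0 : X0 ⟶ D.obj i0) [LocallyQuasiFinite f0]
    [LocallyOfFinitePresentation f0] (f : X ⟶ c.pt) (pX : X ⟶ X0) (hX : IsPullback pX f f0 (c.π.app i0))
    (w : X → ℤ) (hw : MoreMor.IsWeighting f w) :
    ∃ (i : I) (a : i ⟶ i0) (Xi : Scheme.{u}) (fi : Xi ⟶ D.obj i) (pXi : Xi ⟶ X0) (g : X ⟶ Xi) (wi : Xi → ℤ),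
      IsPullback pXi fi f0 (D.map a) ∧ g ≫ fi = f ≫ c.π.app i ∧ g ≫ pXi = pX ∧
      MoreMor.IsWeighting fi wi ∧ ∀ x : X, wi (g x) = w x := by
  classical
  haveI : ∀ (i j : I) (a : i ⟶ j), IsAffineHom (D.map a) := fun i j a => inferInstance
  haveI : ∀ {i j : I} (a : i ⟶ j), IsAffineHom (D.map a) := fun {i j} a => inferInstance
  haveI : IsAffineHom (c.π.app i0) := isAffineHom_π_app D c hc i0
  haveI : IsAffineHom pX := MorphismProperty.of_isPullback (P := @IsAffineHom) hX.flip ‹IsAffineHom (c.π.app i0)›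
  haveI : IsAffine X := isAffine_of_isAffineHom pX
  haveI : LocallyQuasiFinite f := MorphismProperty.of_isPullback hX ‹LocallyQuasiFinite f0›
  haveI : LocallyOfFinitePresentation f := MorphismProperty.of_isPullback hX ‹LocallyOfFinitePresentation f0›
  obtain ⟨T0, q, P0, qX0, pT, H0, U, hT0c, hT0q, hcl⟩ := exists_classifier f0
  haveI := hcl.finite
  let F := Over.forget i0
  let D' := F ⋙ D
  let t := Descend.overT D i0
  let c' : Cone D' := c.whisker F
  have hc' : IsLimit c' := (Functor.Initial.isLimitWhiskerEquiv F c).symm hc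
  have hq : ∀ k, c'.π.app k ≫ t.app k = c.π.app i0 := fun k => c.w k.hom
  haveI : ∀ {i j : Over i0} (a : i ⟶ j), IsAffineHom (D'.map a) := fun {i j} a => inferInstanceAs (IsAffineHom (D.map a.left))
  let Dx := Descend.pbDiagram D' t f0
  let cX := Descend.pbCone D' t f0 c' hq hX
  have hcX : IsLimit cX := Descend.pbIsLimit D' t f0 c' hq hX hc'
  have hlev : ∀ n, IsConstructible {x : X | w x = n} := fun n => (isLocallyConstructible_level w hw n).isConstructible
  have hwfin : (Set.range w).Finite := by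
    refine (exists_finite_partition w hw (isAffineOpen_top X)).2.subset ?_
    rintro _ ⟨x, rfl⟩; exact ⟨⟨x, trivial⟩, rfl⟩
  obtain ⟨k, wk, hwk, hwkfin, hwkeq⟩ := exists_stage_function hcX (Over.mk (𝟙 i0)) w hlev hwfin.toFinset
  let Dt := Descend.pbDiagram D' t q
  haveI : ∀ i, CompactSpace ↥(Dt.obj i) := fun i => Descend.pb_compactSpace D' t q i
  haveI : ∀ i, QuasiSeparatedSpace ↥(Dt.obj i) := fun i => Descend.pb_quasiSeparatedSpace D' t q i
  haveI : ∀ i, QuasiSeparatedSpace ↥(pullback q (t.app i)) := fun i => Descend.pb_quasiSeparatedSpace D' t q i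
  let hTl := IsPullback.of_hasPullback q (c.π.app i0)
  let cT := Descend.pbCone D' t q c' hq hTl
  have hcT : IsLimit cT := Descend.pbIsLimit D' t q c' hq hTl hc'
  let hXs := fun j => IsPullback.of_hasPullback f0 (t.app j)
  let hTs := fun j => IsPullback.of_hasPullback q (t.app j)
  let Hs := fun j => IsPullback.of_hasPullback (pullback.snd f0 (t.app j)) (pullback.snd q (t.app j))
  let A := bcMap H0 ((Hs k).paste_horiz (hXs k)) (pullback.fst q (t.app k)) (hTs k).w ⁻¹ᵁ U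
  haveI : IsFinite (A.ι ≫ pullback.snd (pullback.snd f0 (t.app k)) (pullback.snd q (t.app k))) :=
    isFinite_preimage H0 _ _ _ U
  haveI : LocallyOfFinitePresentation (pullback.snd f0 (t.app k)) :=
    MorphismProperty.pullback_snd (P := @LocallyOfFinitePresentation) f0 (t.app k) ‹_›
  haveI : LocallyOfFinitePresentation (pullback.snd (pullback.snd f0 (t.app k)) (pullback.snd q (t.app k))) :=
    MorphismProperty.pullback_snd (P := @LocallyOfFinitePresentation) _ _ ‹_›
  let φ := fun z => wk (pullback.fst (pullback.snd f0 (t.app k)) (pullback.snd q (t.app k)) (A.ι z))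
  let G : ↥(pullback q (t.app k)) → ℤ := MoreMor.fibreIntegral (A.ι ≫ pullback.snd _ _) φ
  have hφ : ∀ n, IsConstructible {z | φ z = n} := fun n =>
    (A.ι ≫ pullback.fst (pullback.snd f0 (t.app k)) (pullback.snd q (t.app k))).isConstructible_preimage (hwk n)
  have hGlev0 := fun n => isLocallyConstructible_fibreIntegral
    (A.ι ≫ pullback.snd (pullback.snd f0 (t.app k)) (pullback.snd q (t.app k))) φ hφ
    (hwkfin.subset (Set.range_subset_iff.2 fun z => ⟨_, rfl⟩)) n
  have hGlev : ∀ n, IsConstructible {v : ↥(Dt.obj k) | G v = n} := fun n => (hGlev0 n).isConstructible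
  have hlc : IsLocallyConstant (G ∘ ⇑(cT.π.app k)) := by
    let H2 := IsPullback.of_hasPullback f (pullback.snd q (c.π.app i0))
    let A2 := bcMap H0 (H2.paste_horiz hX) (pullback.fst q (c.π.app i0)) hTl.w ⁻¹ᵁ U
    haveI : IsFinite (A2.ι ≫ pullback.snd f (pullback.snd q (c.π.app i0))) :=
      isFinite_preimage H0 _ _ _ U
    have h2 := isLocallyConstant_fibreIntegral w hw H2 A2
    have e := (fibreIntegral_classified H0 U (hXs k) (hTs k) (Hs k) hX hTl H2
      (Descend.pbCone_isPullback D' t f0 c' hq hX k) (Descend.pbCone_isPullback D' t q c' hq hTl k)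
      (Descend.pbCone_fst D' t f0 c' hq hX k) (Descend.pbCone_fst D' t q c' hq hTl k) wk)
    refine (congrArg IsLocallyConstant ?_).mp h2
    refine Eq.trans ?_ e
    congr 1
    funext z
    exact (hwkeq _ (hwfin.mem_toFinset.2 ⟨_, rfl⟩)).symm
  obtain ⟨j, a, hj⟩ := exists_stage_isLocallyConstant hcT k G hGlev hlc
  refine ⟨j.left, j.hom, _, pullback.snd f0 (t.app j), pullback.fst f0 (t.app j), cX.π.app j,
    fun x => wk (Dx.map a x), hXs j, Descend.pbCone_snd D' t f0 c' hq hX j, Descend.pbCone_fst D' t f0 c' hq hX j, ?_, fun x => ?_⟩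
  · refine isWeighting_of_classifier hcl (hXs j) _ (hTs j) (Hs j) _ rfl ?_
    exact (congrArg IsLocallyConstant (fibreIntegral_classified H0 U (hXs k) (hTs k) (Hs k) (hXs j) (hTs j) (Hs j)
      (Descend.pbMap_isPullback D' t f0 a) (Descend.pbMap_isPullback D' t q a)
      (Descend.pbMap_fst D' t f0 a) (Descend.pbMap_fst D' t q a) wk)).mpr hj
  · show wk (Dx.map a (cX.π.app j x)) = w x
    rw [show Dx.map a (cX.π.app j x) = cX.π.app k x from congrArg (fun m => m x) (cX.w a)]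
    exact hwkeq x (hwfin.mem_toFinset.2 ⟨_, rfl⟩)

end Groth.Agent.WeightDescend4
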